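import Cfsg.Agent.H23.BarA7
import Cfsg.Agent.H1.AltAut
import Cfsg.Agent.S4231

/-! Automorphisms of `A₆` and `A₇`. -/

set_option autoImplicit false
set_option maxRecDepth 100000

namespace Cfsg.Agent.DWA

open Subgroup Equiv Equiv.Perm Cfsg.Agent.H23.A7
open scoped commutatorElement

variable {n : ℕ}

theorem odd_inner (hn : n = 6 ∨ n = 7) {γ : MulAut (alternatingGroup (Fin n))} (ho : Odd (orderOf γ)) :
    ∃ g, γ = MulAut.conj g := by
  obtain ⟨σ, rfl⟩ := S4231.mem_range (by omega) γ ho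
  obtain ⟨k, hk⟩ := ho
  refine ⟨⟨σ ^ (2 * (k + 1)), mem_alternatingGroup.2 (by rw [map_pow, pow_mul, Int.units_sq, one_pow])⟩, ?_⟩
  rw [← MulAut.conjNormal_val]
  change _ = MulAut.conjNormal (σ ^ (2 * (k + 1)))
  rw [map_pow, show 2 * (k + 1) = 2 * k + 1 + 1 by ring, ← hk, pow_succ, pow_orderOf_eq_one, one_mul]

theorem KK_odd {G : Type*} [Group G] {c : G} (hc : Odd (orderOf c)) (h : c ^ 4 = 1) : c = 1 :=
  orderOf_eq_one_iff.1 (((Nat.coprime_two_right.2 hc).pow_right 2).eq_one_of_dvd (orderOf_dvd_of_pow_eq_one h))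

theorem KK_six : ∀ g : Perm (Fin 6), sign g = 1 → g ^ 3 = 1 ∨ g ^ 4 = 1 ∨ g ^ 5 = 1 := by decide +kernel

theorem KK_not_solv {G : Type*} [Group G] {H : Subgroup G} {x y z : G} (hx : x ∈ H) (hy : y ∈ H) (hz : z ∈ H)
    (x1 : x ≠ 1) (e : x = ⁅y * x * y⁻¹, z * x * z⁻¹⁆) : ¬ Group.IsSolvable H := by
  refine not_isSolvable_of_mem_derivedSeries (g := ⟨x, hx⟩) (fun h => x1 (congrArg Subtype.val h)) fun k => ?_
  induction k with
  | zero => exact mem_top _
  | succ k ih =>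
    rw [show (⟨x, hx⟩ : H) = ⁅(⟨y, hy⟩ : H) * ⟨x, hx⟩ * (⟨y, hy⟩ : H)⁻¹, (⟨z, hz⟩ : H) * ⟨x, hx⟩ * (⟨z, hz⟩ : H)⁻¹⁆ from
      Subtype.ext e]
    exact commutator_mem_commutator ((derivedSeries_normal _ k).conj_mem _ ih _) ((derivedSeries_normal _ k).conj_mem _ ih _)

theorem KK_not_swap {ψ : Perm (Fin 7)}
    (hs : Group.IsSolvable ((MulAut.conjNormal ψ : MulAut A).toMonoidHom.eqLocus (MonoidHom.id _))) :
    ψ.support.card ≠ 2 := fun h => by
  obtain ⟨a, b, hab, rfl⟩ := card_support_eq_two.1 h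
  obtain ⟨π, e⟩ := isConj_iff.1 (isConj_swap (by decide : (5 : Fin 7) ≠ 6) hab)
  have key : ∀ u : A, (u : Perm (Fin 7)) * swap 5 6 = swap 5 6 * (u : Perm (Fin 7)) → (MulAut.conjNormal π : MulAut A) u ∈
      (MulAut.conjNormal (swap a b) : MulAut A).toMonoidHom.eqLocus (MonoidHom.id _) := fun u hu => Subtype.ext (by
    change swap a b * (π * u * π⁻¹) * (swap a b)⁻¹ = π * u * π⁻¹
    rw [← e]
    calc _ = π * (swap 5 6 * (u : Perm (Fin 7))) * (swap 5 6)⁻¹ * π⁻¹ := by group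
      _ = _ := by rw [← hu]; group)
  refine KK_not_solv (key ⟨swap 0 1 * swap 1 2, mem_alternatingGroup.2 (by decide)⟩ (by decide))
    (key ⟨swap 0 3 * swap 0 4, mem_alternatingGroup.2 (by decide)⟩ (by decide))
    (key ⟨swap 0 1 * swap 2 3, mem_alternatingGroup.2 (by decide)⟩ (by decide))
    (fun h => absurd (congrArg Subtype.val ((MulEquiv.map_eq_one_iff _).1 h)) (by decide)) ?_ hs
  simp only [← map_inv, ← map_mul, ← map_commutatorElement]
  exact congrArg _ (Subtype.ext (by decide))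

/-- the conjugate of `φ t0` by `a0` is `φ v` with `v` in the four-group, `v ≠ t0` -/
abbrev KK_P (φ B : Perm (Fin 7)) : Prop := φ * B = B * φ →
  a0 * (φ * t0) * a0⁻¹ = φ * 1 ∨ a0 * (φ * t0) * a0⁻¹ = φ * B ∨ a0 * (φ * t0) * a0⁻¹ = φ * (B * t0)

set_option synthInstance.maxSize 2000 in
theorem KK_dec : ∀ φ : Perm (Fin 7), (∀ x, φ (t0 x) = t0 (φ x)) → φ * φ = 1 → (sign φ = -1 →
    (φ * t0).support.card ≠ 2 → φ * c0 ≠ c0 * φ ∧ KK_P φ s0 ∧ KK_P φ (s0 * t0)) ∧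
    (φ ≠ 1 → φ ≠ t0 → sign φ = 1 → c0 * φ = φ * c0 → φ = s0 ∨ φ = s0 * t0) := by
  decide +kernel

theorem KK_core {φ : Perm (Fin 7)} {B c : A} (B2 : B * B = 1) (B1 : B ≠ 1) (BZ : B ≠ t) (cm : B * t = t * B)
    (f2 : φ * φ = 1) (fL : sign φ = -1) (fZ : φ * t0 = t0 * φ) (fB : φ * B = B * φ) (hs : (φ * t0).support.card ≠ 2)
    (hnc : ∀ g v : A, v = 1 ∨ v = B ∨ v = B * t → (g : Perm (Fin 7)) * (φ * t0) * (g : Perm (Fin 7))⁻¹ ≠ φ * v)
    (hc : Odd (orderOf c)) (cZ : c * t = t * c) (h : φ * c = c * φ ∨ c * B = B * c) : c = 1 := by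
  obtain ⟨k1, k2⟩ := (KK_dec φ (DFunLike.congr_fun fZ) f2).1 fL hs
  have key : ∀ x : Perm (Fin 7), Commute (c : Perm (Fin 7)) x → c = 1 ∨ c0 * x = x * c0 := fun x hx => by
    rcases (cent_t0 c (DFunLike.congr_fun (congrArg Subtype.val cZ))).2.1 with e | e | e
    · exact Or.inl (KK_odd hc (Subtype.ext e))
    · exact Or.inr (e ▸ (hx.pow_left 4).eq)
    · exact Or.inr (by simpa [e] using (hx.pow_left 4).inv_left.eq)
  rcases h with h | h
  · exact (key φ h.symm).resolve_right fun e => k1 e.symm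
  refine (key B (congrArg Subtype.val h)).resolve_right fun e => ?_
  have k3 : KK_P φ B := by
    rcases (KK_dec B (DFunLike.congr_fun (congrArg Subtype.val cm)) (congrArg Subtype.val B2)).2
      (fun e => B1 (Subtype.ext e)) (fun e => BZ (Subtype.ext e)) (mem_alternatingGroup.1 B.2) e with e | e
    exacts [e ▸ k2.1, e ▸ k2.2]
  rcases k3 fB with e | e | e
  exacts [hnc a 1 (Or.inl rfl) e, hnc a B (Or.inr (Or.inl rfl)) e, hnc a _ (Or.inr (Or.inr rfl)) e]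

theorem kk_one (hn : n = 6 ∨ n = 7) {f : MulAut (alternatingGroup (Fin n))} {Z B c : alternatingGroup (Fin n)}
    (Z2 : Z * Z = 1) (Z1 : Z ≠ 1) (B2 : B * B = 1) (B1 : B ≠ 1) (BZ : B ≠ Z) (cm : B * Z = Z * B)
    (f2 : f * f = 1) (fL : ∀ g, f ≠ MulAut.conj g) (fZ : f Z = Z) (fB : f B = B)
    (hs : Group.IsSolvable ((f * MulAut.conj Z).toMonoidHom.eqLocus (MonoidHom.id _)))
    (hnc : ∀ g v, v = 1 ∨ v = B ∨ v = B * Z →
      MulAut.conj g * (f * MulAut.conj Z) * (MulAut.conj g)⁻¹ ≠ f * MulAut.conj v)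
    (hc : Odd (orderOf c)) (cZ : c * Z = Z * c) (h : f c = c ∨ c * B = B * c) : c = 1 := by
  rcases hn with rfl | rfl
  · have cm : Commute c Z := cZ
    have z2 : Z ^ 2 = 1 := by rw [pow_two, Z2]
    have key : ∀ k, Odd k → (c * Z) ^ k ≠ 1 := fun k hk e => Z1 (by
      have := congrArg (· ^ orderOf c) e
      simp only [← pow_mul, one_pow] at this
      rw [mul_comm k, pow_mul, cm.mul_pow, pow_orderOf_eq_one, one_mul, ← pow_mul] at this
      obtain ⟨j, hj⟩ := hc.mul hk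
      rwa [hj, pow_succ, pow_mul, z2, one_pow, one_mul] at this)
    rcases KK_six _ (mem_alternatingGroup.1 (c * Z).2) with e | e | e
    · exact absurd (Subtype.ext e) (key 3 (by decide))
    · have e1 : (c * Z) ^ 4 = 1 := Subtype.ext e
      rw [cm.mul_pow, show Z ^ 4 = (Z ^ 2) ^ 2 by rw [← pow_mul], z2, one_pow, mul_one] at e1
      exact KK_odd hc e1
    · exact absurd (Subtype.ext e) (key 5 (by decide))
  have hb := H1.AltAut.bijective (α := Fin 7) (by simp) (by simp)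
  obtain ⟨φ, rfl⟩ := hb.2 f
  obtain ⟨g, e⟩ := conj_inv Z2 Z1 t2 t1
  have e0 : t0 = (g : Perm (Fin 7)) * Z * (g : Perm (Fin 7))⁻¹ := (congrArg Subtype.val e).symm
  have fx : ∀ x : A, (MulAut.conjNormal φ : MulAut A) x = x → (g : Perm (Fin 7)) * φ * (g : Perm (Fin 7))⁻¹ *
      ((g : Perm (Fin 7)) * x * (g : Perm (Fin 7))⁻¹) = (g : Perm (Fin 7)) * x * (g : Perm (Fin 7))⁻¹ *
      ((g : Perm (Fin 7)) * φ * (g : Perm (Fin 7))⁻¹) := fun x hx => by
    have e1 : φ * x * φ⁻¹ = x := congrArg Subtype.val hx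
    rw [conj_mul, conj_mul, mul_inv_eq_iff_eq_mul.1 e1]
  have hi := (MulAut.conj g).injective
  refine hi ((KK_core (φ := g * φ * (g : Perm (Fin 7))⁻¹) (B := g * B * g⁻¹) (c := g * c * g⁻¹)
    (by rw [conj_mul, B2]; group) (fun h => B1 (by simpa using h)) (fun h => BZ (hi (h.trans e.symm)))
    (by rw [← e, conj_mul, conj_mul, cm]) (by
      rw [conj_mul, hb.1 (a₁ := φ * φ) (a₂ := 1) (by rw [map_mul, f2, map_one])]; group) ?_
    (e0 ▸ fx Z fZ) (fx B fB) ?_ (fun k v hv h => ?_) (by rwa [← (MulAut.conj g).orderOf_eq] at hc)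
    (by rw [← e, conj_mul, conj_mul, cZ]) (h.imp (fx c) fun h => by rw [conj_mul, conj_mul, h])).trans
    (map_one _).symm)
  · rw [map_mul, map_mul, map_inv, mul_right_comm, mul_inv_cancel, one_mul]
    exact (Int.units_eq_one_or _).resolve_left fun s => fL ⟨φ, mem_alternatingGroup.2 s⟩ (MulAut.conjNormal_val (h := ⟨φ, mem_alternatingGroup.2 s⟩))
  · rw [e0, conj_mul, card_support_conj]
    exact KK_not_swap (by rwa [map_mul, MulAut.conjNormal_val])
  · refine hnc (g⁻¹ * k * g) (g⁻¹ * v * g) (by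
      rcases hv with rfl | rfl | rfl
      · exact Or.inl (by group)
      · exact Or.inr (Or.inl (by group))
      · exact Or.inr (Or.inr (by rw [← e]; group))) ?_
    simp only [← MulAut.conjNormal_val, ← map_inv, ← map_mul]
    refine congrArg _ ?_
    rw [e0] at h
    simp only [Subgroup.coe_mul, Subgroup.coe_inv]
    calc _ = (g : Perm (Fin 7))⁻¹ * (k * (g * φ * (g : Perm (Fin 7))⁻¹ * (g * Z * (g : Perm (Fin 7))⁻¹)) *
        (k : Perm (Fin 7))⁻¹) * g := by group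
      _ = _ := by rw [h]; group

end Cfsg.Agent.DWA
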