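import Cfsg.Agent.H23.PGModel
import Cfsg.Agent.H23.PG
import Cfsg.Agent.S2697
import Cfsg.Agent.S2698
import Cfsg.Agent.S0497

/-! An involutory outer automorphism of `PSL₂(q)` centralising a dihedral group of order 8 with solvable
fixed group forces `q = 9`. -/

set_option autoImplicit false

namespace Cfsg.Agent.DWA

open scoped MatrixGroups commutatorElement
open Subgroup Cfsg.Agent.H23 Cfsg.Agent.H23.Pgl

theorem L9_conj_inj {G : Type*} [Group G] [IsSimpleGroup G] {a b : G} (h : a * b ≠ b * a) :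
    Function.Injective (MulAut.conj : G →* MulAut G) := by
  rw [← MonoidHom.ker_eq_bot_iff]
  refine (MonoidHom.normal_ker _).eq_bot_or_eq_top.resolve_right fun e => h ?_
  have h1 : MulAut.conj a = 1 := MonoidHom.mem_ker.1 (e ▸ mem_top a)
  exact mul_inv_eq_iff_eq_mul.1 (DFunLike.congr_fun h1 b)

theorem L9_conj {G : Type*} [Group G] (γ : MulAut G) (g : G) :
    γ * MulAut.conj g = MulAut.conj (γ g) * γ := by
  ext x; simp

theorem L9_not_solv (F : Type*) [Field F] [Finite F] (ho : Odd (Nat.card F)) (h3 : 3 < Nat.card F) :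
    ¬ Group.IsSolvable PGL(2, F) := fun hs => by
  obtain ⟨τ, m, p, -, h⟩ := exists_pg F ho h3
  have h1 : Group.IsSolvable (iota F).range := Group.isSolvable_of_surjective (iota F).rangeRestrict_surjective
  have h2 : Group.IsSolvable (MulAut.conj : PSL(2, F) →* _).range :=
    Group.isSolvable_of_isSolvable_injective (inclusion_injective h.L_le)
  have := h.simple
  have h4 := Group.IsSolvable.commutator_lt_top_of_nontrivial (MulAut.conj : PSL(2, F) →* _).range
  refine h4.ne (map_injective (subtype_injective _) ?_)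
  rw [_root_.commutator_def, map_commutator, ← MonoidHom.range_eq_map, range_subtype, h.perfect]

theorem psl_nine {F : Type*} [Field F] [Finite F] (ho : Odd (Nat.card F)) (h3 : 3 < Nat.card F)
    {γ : MulAut PSL(2, F)} (h2 : γ * γ = 1) (hL : ∀ g, γ ≠ MulAut.conj g) {A B : PSL(2, F)}
    (hA : A * A = 1) (hB : B * B = 1) (h4 : (A * B) ^ 4 = 1) (h4' : (A * B) ^ 2 ≠ 1) (fA : γ A = A) (fB : γ B = B)
    (hs : Group.IsSolvable (γ.toMonoidHom.eqLocus (MonoidHom.id _))) :
    Nonempty (PSL(2, F) ≃* alternatingGroup (Fin 6)) := by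
  obtain ⟨τ, m, p, -, h⟩ := exists_pg F ho h3
  have : IsSimpleGroup PSL(2, F) := Matrix.ProjectiveSpecialLinearGroup.rank_two_simple h3
  have : Finite (MulAut PSL(2, F)) := Finite.of_injective _ DFunLike.coe_injective
  have hi : Function.Injective (MulAut.conj : PSL(2, F) →* _) := L9_conj_inj (a := A) (b := B) fun e => h4' (by
    rw [pow_two, mul_assoc, ← mul_assoc B, ← e, mul_assoc, hB, mul_one, hA])
  have hP : ∀ g : PSL(2, F), MulAut.conj g ∈ (iota F).range := fun g => h.L_le ⟨g, rfl⟩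
  have g1 : γ ≠ 1 := fun e => hL 1 (by rw [e, map_one])
  have hγ : γ ∉ (iota F).range := fun hγ => by
    have z2 : MulAut.conj ((A * B) ^ 2) * MulAut.conj ((A * B) ^ 2) = 1 := by
      rw [← map_mul, ← pow_add, h4, map_one]
    have z1 : MulAut.conj ((A * B) ^ 2) ≠ 1 := fun e => h4' (hi (e.trans (map_one _).symm))
    have x2 : MulAut.conj (A * B) * MulAut.conj (A * B) ≠ 1 := by rwa [← map_mul, ← pow_two]
    have hx := h.mem_tor_of_comm' (hP _) z1 (hP (A * B)) x2 (by rw [← map_mul, ← map_mul, ← pow_succ, ← pow_succ'])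
    by_cases ht : γ ∈ torA (MulAut.conj ((A * B) ^ 2))
    · exact hL _ (h.eq_of_inv (hP _) z2 z1 ht h2 g1)
    · have := h.refl_inverts (hP _) z1 hγ (by rw [L9_conj, map_pow, map_mul, fA, fB]) ht hx
      rw [L9_conj, map_mul, fA, fB, mul_inv_cancel_right] at this
      exact x2 (eq_inv_iff_mul_eq_one.1 this)
  obtain ⟨g, σ, e⟩ := exists_eq_iota γ
  have : Fact (Nat.Prime 2) := ⟨Nat.prime_two⟩
  have s2 : orderOf σ = 2 := orderOf_eq_prime (pow_field (g := g) (by rw [← e, pow_two, h2]; exact one_mem _))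
    fun s1 => hγ (by rw [e, s1, map_one, mul_one]; exact ⟨g, rfl⟩)
  obtain ⟨α, -, hα⟩ := H68.lang_pslField (F := F) le_rfl σ (iota F g) (iota_range (F := F) ▸ ⟨g, rfl⟩) (by
    rw [← e, H68.orderOf_pslField le_rfl, s2]
    exact orderOf_eq_prime (by rw [pow_two, h2]) g1)
  rw [← e] at hα
  obtain ⟨e1⟩ := H68.conj_cent (H29.pslConj_range_normal (F := F) le_rfl) hα.symm
  obtain ⟨e2⟩ := H68.cent_pslField (F := F) le_rfl (H68.fixEmb_fixF σ)
  rw [← iota_range] at e1 e2
  have s1 : Group.IsSolvable ((γ.toMonoidHom.eqLocus (MonoidHom.id _)).map (MulAut.conj : PSL(2, F) →* _)) :=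
    Group.isSolvable_of_surjective (MonoidHom.subgroupMap_surjective _ _)
  have s3 : Group.IsSolvable ↥((iota F).range ⊓ centralizer {γ}) := by
    have : Group.IsSolvable (((γ.toMonoidHom.eqLocus (MonoidHom.id _)).map
        (MulAut.conj : PSL(2, F) →* _)).subgroupOf ((iota F).range ⊓ centralizer {γ})) :=
      Group.isSolvable_of_isSolvable_injective (f := (Subgroup.subtype _).subgroupComap _) fun a b e =>
        Subtype.ext (Subtype.ext (congrArg (fun x => x.1) e))
    refine Group.isSolvable_of_ker_le_range (((γ.toMonoidHom.eqLocus (MonoidHom.id _)).map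
      (MulAut.conj : PSL(2, F) →* _)).subgroupOf _).subtype Abelianization.of ?_
    rw [Abelianization.ker_of, range_subtype, _root_.commutator_def, commutator_le]
    intro a _ b _
    obtain ⟨k, hk⟩ := h.commutator_mem a.1 b.1
    refine ⟨k, hi ?_, hk⟩
    have c : (⁅a, b⁆ : ↥((iota F).range ⊓ centralizer {γ})).1 * γ = γ * (⁅a, b⁆ : ↥((iota F).range ⊓ centralizer {γ})).1 :=
      mem_centralizer_singleton_iff.1 (⁅a, b⁆ : ↥((iota F).range ⊓ centralizer {γ})).2.2
    change ⁅a.1, b.1⁆ * γ = γ * ⁅a.1, b.1⁆ at c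
    rw [← hk, L9_conj] at c
    exact (mul_right_cancel c).symm
  have s4 : Group.IsSolvable PGL(2, H68.fixF σ) :=
    Group.isSolvable_of_surjective (f := (e1.symm.trans e2).toMonoidHom) (e1.symm.trans e2).surjective
  have hc := H68.card_eq_fixF_pow σ
  rw [s2] at hc
  have o1 : Odd (Nat.card (H68.fixF σ)) := (Nat.odd_pow_iff two_ne_zero).1 (hc ▸ ho)
  have l1 : Nat.card (H68.fixF σ) ≤ 3 := not_lt.1 fun l => L9_not_solv _ o1 l s4
  have l2 : Nat.card (H68.fixF σ) = 3 := by
    obtain ⟨k, hk⟩ := o1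
    obtain rfl | rfl : k = 0 ∨ k = 1 := by omega
    · rw [hk] at hc; omega
    · exact hk
  have := Fintype.ofFinite F
  exact S0254.result (by rw [← Nat.card_eq_fintype_card, hc, l2]; rfl)

end Cfsg.Agent.DWA
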